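import Groth.Agent.WEField.Etale
import Mathlib.AlgebraicGeometry.Morphisms.WeaklyEtale
import Mathlib.AlgebraicGeometry.Morphisms.FormallyUnramified

/-!
Weakly étale morphisms are formally unramified.
-/

set_option autoImplicit false
set_option backward.isDefEq.respectTransparency.types false

universe u

open CategoryTheory CategoryTheory.Limits AlgebraicGeometry

namespace Groth.Agent.WEUnramLib

theorem formallyUnramified {X Y : Scheme.{u}} (f : X ⟶ Y) [WeaklyEtale f] : FormallyUnramified f := by
  wlog hY : ∃ R, Y = Spec R generalizing X Y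
  · rw [IsZariskiLocalAtTarget.iff_of_openCover (P := @FormallyUnramified) Y.affineCover]
    intro i
    exact this (pullback.snd _ _) ⟨_, rfl⟩
  obtain ⟨R, rfl⟩ := hY
  wlog hX : ∃ S, X = Spec S generalizing X
  · rw [IsZariskiLocalAtSource.iff_of_openCover (P := @FormallyUnramified) X.affineCover]
    intro i
    haveI hwe : WeaklyEtale (X.affineCover.f i ≫ f) := IsZariskiLocalAtSource.comp ‹_› _
    exact this (X.affineCover.f i ≫ f) ⟨_, rfl⟩
  obtain ⟨S, rfl⟩ := hX
  obtain ⟨φ, rfl : Spec.map φ = f⟩ := Spec.homEquiv.symm.surjective f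
  rw [HasRingHomProperty.Spec_iff (P := @FormallyUnramified)]
  algebraize [φ.hom]
  haveI : WeaklyEtale (Spec.map (CommRingCat.ofHom (algebraMap R S))) := ‹WeaklyEtale (Spec.map φ)›
  have : MorphismProperty.RespectsIso (@Flat.{u}) :=
    MorphismProperty.IsStableUnderBaseChange.respectsIso
  haveI : Algebra.WeaklyEtale R S := by
    refine { flat := ?_, flat_lmul' := ?_ }
    · exact RingHom.flat_algebraMap_iff.1
        ((HasRingHomProperty.Spec_iff (P := @Flat)).1 (WeaklyEtale.flat (f := Spec.map φ)))
    · have h := WeaklyEtale.flat_diagonal (f := Spec.map (CommRingCat.ofHom (algebraMap R S)))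
      rw [diagonal_SpecMap, MorphismProperty.cancel_right_of_respectsIso @Flat,
        HasRingHomProperty.Spec_iff (P := @Flat)] at h
      exact h
  exact WEField.formallyUnramified_of_weaklyEtale R S

end Groth.Agent.WEUnramLib
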